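import Cfsg.Agent.Lib.Schur.Four.Uni

/-!
A stem extension of `SL_3(4)` by an elementary abelian 2-group has kernel of order at most 4: the defects
of the Steinberg relations form the image of a single homomorphism from the additive group of the field.
-/

set_option autoImplicit false

namespace Cfsg.Agent.Lib.Schur.Four

open Matrix
open scoped commutatorElement

variable {F : Type*} [Field F] [Fintype F]

theorem two_eq_zero (hF : Fintype.card F = 4) : (2 : F) = 0 := by
  have h := Nat.cast_card_eq_zero F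
  rw [hF] at h
  have : (2 : F) * 2 = 0 := by norm_num; simpa using h
  exact mul_self_eq_zero.mp this

theorem exists_omega (hF : Fintype.card F = 4) :
    ∃ ω : F, ω ≠ 0 ∧ ω ≠ 1 ∧ ∀ t : F, t = 0 ∨ t = 1 ∨ t = ω ∨ t = 1 + ω := by
  classical
  obtain ⟨ω, hω⟩ := exists_notMem_of_card (s := ({0, 1} : Finset F))
    (lt_of_le_of_lt Finset.card_le_two (by omega))
  simp only [Finset.mem_insert, Finset.mem_singleton, not_or] at hω
  obtain ⟨h0, h1⟩ := hω
  have h2 := two_eq_zero hF
  have h3 : 1 + ω ≠ 0 := fun h => h1 (by linear_combination h - h2)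
  have hs : ({0, 1, ω, 1 + ω} : Finset F) = Finset.univ := by
    refine Finset.eq_univ_of_card _ ?_
    rw [hF, Finset.card_insert_of_notMem, Finset.card_insert_of_notMem, Finset.card_pair]
    · simpa using h0
    · simp [Ne.symm h1, h0]
    · simp [Ne.symm h0, Ne.symm h3]
  refine ⟨ω, h0, h1, fun t => ?_⟩
  have := hs ▸ Finset.mem_univ t
  simpa using this

/-- The bound. -/
theorem card_ker_le_four (hF : Fintype.card F = 4) {Γ : Type*} [Group Γ] [Finite Γ]
    {σ : Γ →* SpecialLinearGroup (Fin 3) F} (hσ : Cfsg.IsStemExtension σ)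
    (hsq : ∀ z ∈ σ.ker, z * z = 1) : Nat.card σ.ker ≤ 4 := by
  classical
  obtain ⟨ω, h0, h1, hcases⟩ := exists_omega hF
  have h2 := two_eq_zero hF
  have hs := hσ.1
  have hc := hσ.2.1
  have hr : CommRel hs := commRel hs hc hsq h2 ω h0 h1 (Fintype.card_fin 3)
  have h01 : (0 : Fin 3) ≠ 1 := by decide
  have h12 : (1 : Fin 3) ≠ 2 := by decide
  have h02 : (0 : Fin 3) ≠ 2 := by decide
  let f : Multiplicative F →* Γ :=
    MonoidHom.mk' (fun s => defect hs 0 1 2 s.toAdd ω)
      fun s t => defect_add_left hs hc hr h01 h12 h02 _ _ _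
  have hW : f.range ≤ σ.ker := by
    rintro _ ⟨s, rfl⟩
    exact defect_mem_center hs hc h01 h12 h02 _ _
  haveI : f.range.Normal := ⟨fun n hn g => by
    rwa [Subgroup.mem_center_iff.mp (hc (hW hn)) g, mul_inv_cancel_right]⟩
  let σ' : Γ ⧸ f.range →* SpecialLinearGroup (Fin 3) F := QuotientGroup.lift f.range σ hW
  have hσ'mk : ∀ x : Γ, σ' (x : Γ ⧸ f.range) = σ x := fun x => rfl
  have hs' : Function.Surjective σ' := fun y => by
    obtain ⟨x, rfl⟩ := hs y
    exact ⟨x, rfl⟩
  have hker : ∀ z ∈ σ'.ker, ∃ x ∈ σ.ker, (x : Γ ⧸ f.range) = z := by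
    intro z hz
    obtain ⟨x, rfl⟩ := QuotientGroup.mk_surjective z
    exact ⟨x, hz, rfl⟩
  have hc' : σ'.ker ≤ Subgroup.center (Γ ⧸ f.range) := by
    intro z hz
    obtain ⟨x, hx, rfl⟩ := hker z hz
    rw [Subgroup.mem_center_iff]
    intro y
    obtain ⟨y, rfl⟩ := QuotientGroup.mk_surjective y
    rw [← QuotientGroup.mk_mul, ← QuotientGroup.mk_mul, Subgroup.mem_center_iff.mp (hc hx) y]
  have hσ' : Cfsg.IsStemExtension σ' := by
    refine ⟨hs', hc', fun z hz => ?_⟩
    obtain ⟨x, hx, rfl⟩ := hker z hz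
    have h := Subgroup.mem_map_of_mem (QuotientGroup.mk' f.range) (hσ.2.2 hx)
    rwa [commutator_def, Subgroup.map_commutator, Subgroup.map_top_of_surjective _
      (QuotientGroup.mk'_surjective _), ← commutator_def] at h
  have hsq' : ∀ z ∈ σ'.ker, z * z = 1 := by
    intro z hz
    obtain ⟨x, hx, rfl⟩ := hker z hz
    rw [← QuotientGroup.mk_mul, hsq x hx, QuotientGroup.mk_one]
  have hbr : ∀ g h, br hs' g h = ((br hs g h : Γ) : Γ ⧸ f.range) := by
    intro g h
    rw [← br_eq hs' hc' (x := ((Function.surjInv hs g : Γ) : Γ ⧸ f.range))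
      (y := ((Function.surjInv hs h : Γ) : Γ ⧸ f.range))
      (by rw [hσ'mk, Function.surjInv_eq hs]) (by rw [hσ'mk, Function.surjInv_eq hs])]
    exact (map_commutatorElement (QuotientGroup.mk' f.range) _ _).symm
  have hperm : ∀ i j k : Fin 3, i ≠ j → j ≠ k → i ≠ k →
      ∃ π : Equiv.Perm (Fin 3), π 0 = i ∧ π 1 = j ∧ π 2 = k := by decide
  have hrels : Rels hs' := by
    refine ⟨Fintype.card_fin 3, commRel hs' hc' hsq' h2 ω h0 h1 (Fintype.card_fin 3), ?_⟩
    intro i j k hij hjk hik s t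
    obtain ⟨π, hi, hj, hk⟩ := hperm i j k hij hjk hik
    have hmem : defect hs i j k s t ∈ f.range := by
      rw [← defect_perm hs hc h2 hij hjk hik π hi hj hk]
      rcases hcases t with rfl | rfl | rfl | rfl
      · have h := defect_add_right hs hc hr h01 h12 h02 s 0 0
        rw [add_zero] at h
        rw [left_eq_mul.mp h]
        exact one_mem _
      · rw [defect_one]; exact one_mem _
      · exact ⟨Multiplicative.ofAdd s, rfl⟩
      · rw [defect_add_right hs hc hr h01 h12 h02, defect_one, one_mul]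
        exact ⟨Multiplicative.ofAdd s, rfl⟩
    have h : ((defect hs i j k s t : Γ) : Γ ⧸ f.range) = 1 := (QuotientGroup.eq_one_iff _).mpr hmem
    rw [defect, QuotientGroup.mk_mul, QuotientGroup.mk_inv, mul_inv_eq_one] at h
    rw [hbr, hbr]
    exact h
  haveI : Fact (Nat.Prime 2) := ⟨Nat.prime_two⟩
  haveI : CharP F 2 := CharTwo.of_one_ne_zero_of_two_eq_zero one_ne_zero h2
  have hodd := not_dvd_card_ker_SL_char 2 hσ' hrels
  have hle : σ.ker ≤ f.range := by
    intro x hx
    rw [← QuotientGroup.eq_one_iff]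
    by_contra hne
    have hmem : (x : Γ ⧸ f.range) ∈ σ'.ker := hx
    refine hodd (?_ : 2 ∣ Nat.card σ'.ker)
    have ho : orderOf (⟨(x : Γ ⧸ f.range), hmem⟩ : σ'.ker) = 2 :=
      orderOf_eq_prime (Subtype.ext (by simpa [pow_two] using hsq' _ hmem))
        fun e => hne (congrArg Subtype.val e)
    exact ho ▸ orderOf_dvd_natCard _
  refine (Subgroup.card_le_of_le hle).trans ?_
  refine (Nat.card_le_card_of_surjective f.rangeRestrict f.rangeRestrict_surjective).trans ?_
  rw [Nat.card_congr Multiplicative.toAdd, Nat.card_eq_fintype_card, hF]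

end Cfsg.Agent.Lib.Schur.Four
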