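import Cfsg.Agent.Lib.Schur.LinearRel

/-!
Central extensions of `SL_3(q)`, `q = 2^m > 2`, by elementary abelian 2-groups: commuting root elements have
commuting lifts, so only the dependence of a lifted commutator on its parameters is left.
-/

set_option autoImplicit false

namespace Cfsg.Agent.Lib.Schur.Four

open Matrix
open scoped commutatorElement

variable {ι : Type*} [Fintype ι] [DecidableEq ι] {F : Type*} [Field F]
variable {Γ : Type*} [Group Γ] {σ : Γ →* SpecialLinearGroup ι F}

/-- All commuting root elements have commuting lifts. -/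
def CommRel (hs : Function.Surjective σ) : Prop :=
  ∀ {i j k l : ι}, i ≠ j → k ≠ l → j ≠ k → l ≠ i → ∀ s t : F, br hs (tvx i j s) (tvx k l t) = 1

/-- The lifted commutator depends only on the product of the parameters. -/
def IndepRel (hs : Function.Surjective σ) : Prop :=
  ∀ {i j k : ι}, i ≠ j → j ≠ k → i ≠ k → ∀ s t : F,
    br hs (tvx i j s) (tvx j k t) = br hs (tvx i j (s * t)) (tvx j k 1)

/-- The hypotheses replacing `GoodPair`. -/
structure Rels (hs : Function.Surjective σ) : Prop where
  three : Fintype.card ι = 3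
  comm : CommRel hs
  indep : IndepRel hs

variable (hs : Function.Surjective σ) (hc : σ.ker ≤ Subgroup.center Γ)

include hc in
theorem rel_same (h3 : 3 ≤ Fintype.card ι) {i j : ι} (hij : i ≠ j) (s t : F) :
    br hs (tvx i j s) (tvx i j t) = 1 := by
  obtain ⟨m, hm⟩ := exists_notMem_of_card (s := {i, j})
    (lt_of_le_of_lt Finset.card_le_two (by omega))
  simp only [Finset.mem_insert, Finset.mem_singleton, not_or] at hm
  rw [show tvx i j t = ⁅tvx i m t, tvx m j (1 : F)⁆ by rw [tvx_commutator (Ne.symm hm.1) hm.2 hij, mul_one]]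
  exact br_comm_eq_one hs hc (tvx_commute hij (Ne.symm hm.1) hij.symm hm.1 s t)
    (tvx_commute hij hm.2 (Ne.symm hm.2) hij.symm s 1)

include hc in
/-- With a kernel of exponent 2, the square of a lift depends only on the element lifted. -/
theorem sq_eq (hsq : ∀ z ∈ σ.ker, z * z = 1) {x y : Γ} (h : σ x = σ y) : x * x = y * y := by
  have hz : y⁻¹ * x ∈ σ.ker := by rw [MonoidHom.mem_ker, map_mul, map_inv, h, inv_mul_cancel]
  have hcm : (y⁻¹ * x) * y = y * (y⁻¹ * x) := (Subgroup.mem_center_iff.mp (hc hz) y).symm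
  calc x * x = y * (y⁻¹ * x) * (y * (y⁻¹ * x)) := by group
    _ = y * ((y⁻¹ * x) * y) * (y⁻¹ * x) := by group
    _ = y * y * ((y⁻¹ * x) * (y⁻¹ * x)) := by rw [hcm]; group
    _ = y * y := by rw [hsq _ hz, mul_one]

variable (hsq : ∀ z ∈ σ.ker, z * z = 1) (h2 : (2 : F) = 0)

include h2 in
theorem add_self (a : F) : a + a = 0 := by linear_combination a * h2

include hc h2 in
theorem lift_sq_mem_ker {i j : ι} (hij : i ≠ j) (s : F) :
    Function.surjInv hs (tvx i j s) * Function.surjInv hs (tvx i j s) ∈ Subgroup.center Γ :=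
  hc (by rw [MonoidHom.mem_ker, map_mul, Function.surjInv_eq hs, tvx_add hij, add_self h2, tvx_zero])

include hc hsq h2 in
theorem row_mul_sq {i j k : ι} (hij : i ≠ j) (hjk : j ≠ k) (hik : i ≠ k) {s : F} (hs0 : s ≠ 0) (u : F) :
    br hs (tvx i j s) (tvx i k u) *
      (Function.surjInv hs (tvx i k u) * Function.surjInv hs (tvx i k u)) = 1 := by
  set g := Function.surjInv hs (tvx i j s) with hg
  set h := Function.surjInv hs (tvx j k (u / s)) with hh
  set e := ⁅g, h⁆ with he
  have hσe : σ e = tvx i k u := by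
    rw [he, map_commutatorElement, hg, hh, Function.surjInv_eq hs, Function.surjInv_eq hs,
      tvx_commutator hij hjk hik, mul_div_cancel₀ _ hs0]
  have h1 : ⁅g * g, h⁆ = 1 := by
    rw [commutatorElement_eq_one_iff_mul_comm]
    exact (Subgroup.mem_center_iff.mp (lift_sq_mem_ker hs hc h2 hij s) h).symm
  have h3 : ⁅g * g, h⁆ = ⁅g, e⁆ * (e * e) := by
    rw [he]; simp only [commutatorElement_def]; group
  rw [h3, br_eq hs hc (Function.surjInv_eq hs (tvx i j s)) hσe,
    sq_eq hc hsq (y := Function.surjInv hs (tvx i k u)) (by rw [hσe, Function.surjInv_eq hs])] at h1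
  exact h1

include hc hsq h2 in
theorem col_mul_sq {i j k : ι} (hij : i ≠ j) (hkj : k ≠ j) (hik : i ≠ k) {t : F} (ht0 : t ≠ 0) (u : F) :
    br hs (tvx k j t) (tvx i j u) *
      (Function.surjInv hs (tvx i j u) * Function.surjInv hs (tvx i j u)) = 1 := by
  set g := Function.surjInv hs (tvx i k (u / t)) with hg
  set h := Function.surjInv hs (tvx k j t) with hh
  set e := ⁅g, h⁆ with he
  have hσe : σ e = tvx i j u := by
    rw [he, map_commutatorElement, hg, hh, Function.surjInv_eq hs, Function.surjInv_eq hs,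
      tvx_commutator hik hkj hij, div_mul_cancel₀ _ ht0]
  have h1 : ⁅g, h * h⁆ = 1 := by
    rw [commutatorElement_eq_one_iff_mul_comm]
    exact Subgroup.mem_center_iff.mp (lift_sq_mem_ker hs hc h2 hkj t) g
  have hcm : Commute (tvx k j t) (tvx i j u) := tvx_commute hkj hij hij.symm hkj.symm t u
  have h3 : ⁅g, h * h⁆ = e * (⁅h, e⁆ * e) := by
    rw [he]; simp only [commutatorElement_def]; group
  have hz : ⁅h, e⁆ ∈ Subgroup.center Γ := by
    rw [br_eq hs hc (Function.surjInv_eq hs (tvx k j t)) hσe]; exact br_mem_center hs hc hcm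
  rw [h3, ← mul_assoc, Subgroup.mem_center_iff.mp hz e, mul_assoc,
    br_eq hs hc (Function.surjInv_eq hs (tvx k j t)) hσe,
    sq_eq hc hsq (y := Function.surjInv hs (tvx i j u)) (by rw [hσe, Function.surjInv_eq hs])] at h1
  exact h1

/-- A function on `F` additive up to order that is constant on `F \ {0}` is trivial if `|F| > 2`. -/
theorem eq_one_of_const {M : Type*} [Group M] (f : F → M) (hadd : ∀ a b, f (a + b) = f b * f a)
    (c : M) (hconst : ∀ a, a ≠ 0 → f a = c) (h2' : (2 : F) = 0) (ω : F) (hω0 : ω ≠ 0) (hω1 : ω ≠ 1)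
    (s : F) : f s = 1 := by
  have hsum : (1 : F) + ω ≠ 0 := fun h => hω1 (by linear_combination h - h2')
  have h := hadd 1 ω
  rw [hconst _ hsum, hconst 1 one_ne_zero, hconst ω hω0] at h
  rcases eq_or_ne s 0 with rfl | hs'
  · have h' := hadd 0 0
    rw [add_zero] at h'
    exact left_eq_mul.mp h'
  · rw [hconst s hs', left_eq_mul.mp h]

variable (ω : F) (hω0 : ω ≠ 0) (hω1 : ω ≠ 1)

include hc hsq h2 hω0 hω1 in
theorem rel_row {i j k : ι} (hij : i ≠ j) (hjk : j ≠ k) (hik : i ≠ k) (s u : F) :
    br hs (tvx i j s) (tvx i k u) = 1 := by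
  have hz : ∀ a, br hs (tvx i j a) (tvx i k u) ∈ Subgroup.center Γ := fun a =>
    br_mem_center hs hc (tvx_commute hij hik hij.symm hik.symm a u)
  refine eq_one_of_const (fun a => br hs (tvx i j a) (tvx i k u)) (fun a b => ?_)
    (Function.surjInv hs (tvx i k u) * Function.surjInv hs (tvx i k u))⁻¹
    (fun a ha => eq_inv_of_mul_eq_one_left (row_mul_sq hs hc hsq h2 hij hjk hik ha u)) h2 ω hω0 hω1 s
  show br hs (tvx i j (a + b)) (tvx i k u) = _
  rw [← tvx_add hij]
  exact br_mul_left hs hc (Subgroup.mem_center_iff.mp (hz b) _)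

include hc hsq h2 hω0 hω1 in
theorem rel_col {i j k : ι} (hij : i ≠ j) (hkj : k ≠ j) (hik : i ≠ k) (u t : F) :
    br hs (tvx i j u) (tvx k j t) = 1 := by
  have hz : ∀ a, br hs (tvx k j a) (tvx i j u) ∈ Subgroup.center Γ := fun a =>
    br_mem_center hs hc (tvx_commute hkj hij hij.symm hkj.symm a u)
  have h := eq_one_of_const (fun a => br hs (tvx k j a) (tvx i j u)) (fun a b => by
    show br hs (tvx k j (a + b)) (tvx i j u) = _
    rw [← tvx_add hkj]
    exact br_mul_left hs hc (Subgroup.mem_center_iff.mp (hz b) _))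
    (Function.surjInv hs (tvx i j u) * Function.surjInv hs (tvx i j u))⁻¹
    (fun a ha => eq_inv_of_mul_eq_one_left (col_mul_sq hs hc hsq h2 hij hkj hik ha u)) h2 ω hω0 hω1 t
  rw [br_symm hs (tvx k j t) (tvx i j u), h, inv_one]

include hc hsq h2 hω0 hω1 in
theorem commRel (h3 : Fintype.card ι = 3) : CommRel hs := by
  intro i j k l hij hkl hjk hli s t
  by_cases h1 : i = k
  · subst h1
    by_cases h4 : j = l
    · subst h4; exact rel_same hs hc (by omega) hij s t
    · exact rel_row hs hc hsq h2 ω hω0 hω1 hij h4 hkl s t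
  · by_cases h4 : j = l
    · subst h4; exact rel_col hs hc hsq h2 ω hω0 hω1 hij hkl h1 s t
    · exfalso
      have h := Finset.card_le_univ ({i, j, k, l} : Finset ι)
      simp [hij, h1, hkl, hjk, hli.symm, h4, h3] at h

section chain

variable (hr : CommRel hs)

include hc hr in
theorem commute_lift {i j a b : ι} (hij : i ≠ j) (hab : a ≠ b) (hja : j ≠ a) (hbi : b ≠ i) (s : F) {z : Γ}
    {t : F} (hz : σ z = tvx a b t) : Commute (Function.surjInv hs (tvx i j s)) z := by
  have h := br_eq hs hc (Function.surjInv_eq hs (tvx i j s)) hz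
  rw [hr hij hab hja hbi] at h
  exact commutatorElement_eq_one_iff_mul_comm.mp h

include hc hr in
theorem chain_add_left {i j k : ι} (hij : i ≠ j) (hjk : j ≠ k) (hik : i ≠ k) (s s' t : F) :
    br hs (tvx i j (s + s')) (tvx j k t) = br hs (tvx i j s) (tvx j k t) * br hs (tvx i j s') (tvx j k t) := by
  have hσ : ∀ u, σ (br hs (tvx i j u) (tvx j k t)) = tvx i k (u * t) := fun u => by
    rw [map_br, tvx_commutator hij hjk hik]
  rw [← tvx_add hij, br_mul_left hs hc (commute_lift hs hc hr hij hik hij.symm hik.symm s (hσ s'))]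
  have h := br_eq hs hc (hσ s') (hσ s)
  rw [hr hik hik hik.symm hik.symm] at h
  exact commutatorElement_eq_one_iff_mul_comm.mp h

include hc hr in
theorem chain_add_right {i j k : ι} (hij : i ≠ j) (hjk : j ≠ k) (hik : i ≠ k) (s t t' : F) :
    br hs (tvx i j s) (tvx j k (t + t')) = br hs (tvx i j s) (tvx j k t) * br hs (tvx i j s) (tvx j k t') := by
  have hσ : ∀ u, σ (br hs (tvx i j s) (tvx j k u)) = tvx i k (s * u) := fun u => by
    rw [map_br, tvx_commutator hij hjk hik]
  rw [← tvx_add hjk, br_mul_right hs hc (commute_lift hs hc hr hjk hik hik.symm hjk.symm t (hσ t'))]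

/-- How far a lifted commutator is from depending on the product alone. -/
noncomputable def defect (i j k : ι) (s t : F) : Γ :=
  br hs (tvx i j s) (tvx j k t) * (br hs (tvx i j (s * t)) (tvx j k 1))⁻¹

include hc in
theorem defect_mem_center {i j k : ι} (hij : i ≠ j) (hjk : j ≠ k) (hik : i ≠ k) (s t : F) :
    defect hs i j k s t ∈ σ.ker := by
  rw [MonoidHom.mem_ker, defect, map_mul, map_inv, map_br, map_br, tvx_commutator hij hjk hik,
    tvx_commutator hij hjk hik, mul_one, mul_inv_cancel]

theorem mul_inv_pair {a b c d : Γ} (h : b * d⁻¹ ∈ Subgroup.center Γ) :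
    a * b * (c * d)⁻¹ = a * c⁻¹ * (b * d⁻¹) := by
  have hcm : c⁻¹ * (b * d⁻¹) = (b * d⁻¹) * c⁻¹ := Subgroup.mem_center_iff.mp h c⁻¹
  calc a * b * (c * d)⁻¹ = a * ((b * d⁻¹) * c⁻¹) := by group
    _ = a * c⁻¹ * (b * d⁻¹) := by rw [← hcm]; group

include hc hr in
theorem defect_add_left {i j k : ι} (hij : i ≠ j) (hjk : j ≠ k) (hik : i ≠ k) (s s' t : F) :
    defect hs i j k (s + s') t = defect hs i j k s t * defect hs i j k s' t := by
  rw [defect, chain_add_left hs hc hr hij hjk hik, add_mul, chain_add_left hs hc hr hij hjk hik]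
  exact mul_inv_pair (hc (defect_mem_center hs hc hij hjk hik s' t))

include hc hr in
theorem defect_add_right {i j k : ι} (hij : i ≠ j) (hjk : j ≠ k) (hik : i ≠ k) (s t t' : F) :
    defect hs i j k s (t + t') = defect hs i j k s t * defect hs i j k s t' := by
  rw [defect, chain_add_right hs hc hr hij hjk hik, mul_add, chain_add_left hs hc hr hij hjk hik]
  exact mul_inv_pair (hc (defect_mem_center hs hc hij hjk hik s t'))

theorem defect_one (i j k : ι) (s : F) : defect hs i j k s 1 = 1 := by
  rw [defect, mul_one, mul_inv_cancel]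

include h2 in
theorem permMatrix_det (π : Equiv.Perm ι) : (π.permMatrix F).det = 1 := by
  rw [det_permutation]
  rcases Int.units_eq_one_or (Equiv.Perm.sign π) with h | h <;> rw [h]
  · simp
  · push_cast; linear_combination -h2

include hc h2 in
/-- The defect is the same for all triples, since permutation matrices permute the root elements. -/
theorem defect_perm {i j k i' j' k' : ι} (hij : i ≠ j) (hjk : j ≠ k) (hik : i ≠ k) (π : Equiv.Perm ι)
    (hi : π i' = i) (hj : π j' = j) (hk : π k' = k) (s t : F) :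
    defect hs i' j' k' s t = defect hs i j k s t := by
  set w : SpecialLinearGroup ι F := slMk (π.permMatrix F) (permMatrix_det h2 π) with hw
  have hcol : ∀ a b : ι, π b = a → ∀ u : F,
      (w : Matrix ι ι F) *ᵥ Pi.single a u = Pi.single b u := by
    intro a b hab u
    rw [hw, coe_slMk, permMatrix_mulVec]; subst hab
    funext x
    simp [Pi.single_apply]
  have hinv : ∀ v : ι → F, v ᵥ* ((w⁻¹ : SpecialLinearGroup ι F) : Matrix ι ι F) = v ∘ π := by
    intro v
    have h1 : (v ∘ π) ᵥ* (w : Matrix ι ι F) = v := by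
      rw [hw, coe_slMk, vecMul_permMatrix]
      funext x
      simp
    conv_lhs => rw [← h1]
    rw [vecMul_vecMul, mul_inv_val, vecMul_one]
  have hrow : ∀ a b : ι, π b = a →
      (Pi.single a (1 : F) : ι → F) ᵥ* ((w⁻¹ : SpecialLinearGroup ι F) : Matrix ι ι F) = Pi.single b 1 := by
    intro a b hab
    rw [hinv]; subst hab
    funext x
    simp [Pi.single_apply]
  have hconj : ∀ a b a' b' : ι, a ≠ b → π a' = a → π b' = b → ∀ u : F,
      w * tvx a b u * w⁻¹ = tvx a' b' u := by
    intro a b a' b' hab ha hb u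
    rw [tvx, tv_conj _ (tvx_dot hab u), hcol a a' ha, hrow b b' hb]
    rfl
  set W := Function.surjInv hs w with hW
  have hm := Subgroup.mem_center_iff.mp (hc (defect_mem_center hs hc hij hjk hik s t)) W
  have h : W * defect hs i j k s t * W⁻¹ = defect hs i' j' k' s t := by
    rw [defect, show W * (br hs (tvx i j s) (tvx j k t) * (br hs (tvx i j (s * t)) (tvx j k 1))⁻¹) * W⁻¹ =
      W * br hs (tvx i j s) (tvx j k t) * W⁻¹ * (W * br hs (tvx i j (s * t)) (tvx j k 1) * W⁻¹)⁻¹ by group,
      br_conj hs hc, br_conj hs hc, hconj i j i' j' hij hi hj, hconj j k j' k' hjk hj hk,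
      hconj i j i' j' hij hi hj, hconj j k j' k' hjk hj hk]
    rfl
  rw [← h, hm, mul_inv_cancel_right]

end chain

end Cfsg.Agent.Lib.Schur.Four
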