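import Cfsg.Agent.Lib.Schur.Four.Rel
import Cfsg.Agent.Lib.Schur.Sylow
import Cfsg.Agent.Lib.LinGroup.SylowCard

/-!
The unipotent upper triangular group of `SL_3` lifts to a central extension once the Steinberg relations
hold there, so the kernel of such a stem extension is prime to the characteristic.
-/

set_option autoImplicit false

namespace Cfsg.Agent.Lib.Schur.Four

open Matrix
open scoped commutatorElement Pointwise

variable {ι : Type*} [Fintype ι] [DecidableEq ι] {F : Type*} [Field F]
variable {Γ : Type*} [Group Γ] {σ : Γ →* SpecialLinearGroup ι F}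
variable (hs : Function.Surjective σ)

open Classical in
/-- A third index. -/
noncomputable def midIx (i k : ι) : ι := if h : ∃ m, m ≠ i ∧ m ≠ k then h.choose else i

/-- The distinguished lift of `x_ik(t)`. -/
noncomputable def liftX (i k : ι) (t : F) : Γ := br hs (tvx i (midIx i k) t) (tvx (midIx i k) k 1)

variable (hc : σ.ker ≤ Subgroup.center Γ) (hg : Rels hs)

include hg in
theorem midIx_spec (i k : ι) : midIx i k ≠ i ∧ midIx i k ≠ k := by
  have h : ∃ m, m ≠ i ∧ m ≠ k := by
    obtain ⟨m, hm⟩ := exists_notMem_of_card (s := {i, k})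
      (lt_of_le_of_lt Finset.card_le_two (by have := hg.three; omega))
    exact ⟨m, by simpa using hm⟩
  rw [midIx, dif_pos h]
  exact h.choose_spec

include hg in
theorem map_liftX {i k : ι} (hik : i ≠ k) (t : F) : σ (liftX hs i k t) = tvx i k t := by
  obtain ⟨h1, h2⟩ := midIx_spec hs hg i k
  rw [liftX, map_br, tvx_commutator h1.symm h2 hik, mul_one]

include hc hg in
theorem br_eq_liftX {i j k : ι} (hij : i ≠ j) (hjk : j ≠ k) (hik : i ≠ k) (s t : F) :
    br hs (tvx i j s) (tvx j k t) = liftX hs i k (s * t) := by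
  obtain ⟨h1, h2⟩ := midIx_spec hs hg i k
  have hjm : j = midIx i k := by
    by_contra hjm
    have h := Finset.card_le_univ ({i, j, midIx i k, k} : Finset ι)
    simp [hij, h1.symm, hik, hjm, hjk, h2, hg.three] at h
  rw [liftX, ← hjm]
  exact hg.indep hij hjk hik s t

include hc hg in
theorem liftX_add {i k : ι} (hik : i ≠ k) (s t : F) :
    liftX hs i k (s + t) = liftX hs i k s * liftX hs i k t := by
  obtain ⟨h1, h2⟩ := midIx_spec hs hg i k
  exact chain_add_left hs hc hg.comm h1.symm h2 hik s t 1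

include hc hg in
theorem liftX_zero {i k : ι} (hik : i ≠ k) : liftX hs i k (0 : F) = 1 := by
  have h := liftX_add hs hc hg hik 0 0
  rw [add_zero] at h
  exact left_eq_mul.mp h

include hc hg in
theorem liftX_inv {i k : ι} (hik : i ≠ k) (t : F) : (liftX hs i k t)⁻¹ = liftX hs i k (-t) :=
  inv_eq_of_mul_eq_one_right (by rw [← liftX_add hs hc hg hik, add_neg_cancel, liftX_zero hs hc hg hik])

include hc hg in
theorem liftX_commute {i j k l : ι} (hij : i ≠ j) (hkl : k ≠ l) (hjk : j ≠ k) (hli : l ≠ i) (s t : F) :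
    Commute (liftX hs i j s) (liftX hs k l t) := by
  have h := br_eq hs hc (map_liftX hs hg hij s) (map_liftX hs hg hkl t)
  rw [hg.comm hij hkl hjk hli] at h
  exact commutatorElement_eq_one_iff_mul_comm.mp h

include hc hg in
theorem liftX_commutator {i j k : ι} (hij : i ≠ j) (hjk : j ≠ k) (hik : i ≠ k) (s t : F) :
    ⁅liftX hs i j s, liftX hs j k t⁆ = liftX hs i k (s * t) := by
  rw [br_eq hs hc (map_liftX hs hg hij s) (map_liftX hs hg hjk t), br_eq_liftX hs hc hg hij hjk hik]

/-- The column hom `f ↦ tv f e_k` on functions supported off `k`. -/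
noncomputable def colVec (T : Finset ι) (f : T → Multiplicative F) : ι → F :=
  fun x => if h : x ∈ T then Multiplicative.toAdd (f ⟨x, h⟩) else 0

omit [Fintype ι] in
theorem colVec_dot [Fintype ι] {T : Finset ι} {k : ι} (hk : k ∉ T) (f : T → Multiplicative F) :
    (Pi.single k (1 : F) : ι → F) ⬝ᵥ colVec T f = 0 := by
  rw [single_one_dotProduct, colVec, dif_neg hk]

/-- The column subgroup downstairs. -/
noncomputable def colHom {T : Finset ι} {k : ι} (hk : k ∉ T) :
    (T → Multiplicative F) →* SpecialLinearGroup ι F where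
  toFun f := tv (colVec T f) (Pi.single k 1)
  map_one' := by
    have : colVec T (1 : T → Multiplicative F) = 0 := by
      funext x; unfold colVec; split <;> simp
    rw [this, tv_zero_left]
  map_mul' f g := by
    rw [tv_add_left (colVec_dot hk f) (colVec_dot hk g)]
    congr 1
    funext x
    simp only [colVec, Pi.add_apply]
    split <;> simp

theorem colHom_injective {T : Finset ι} {k : ι} (hk : k ∉ T) :
    Function.Injective (colHom (F := F) hk) := by
  rw [injective_iff_map_eq_one]
  intro f hf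
  have h := congrArg (fun g : SpecialLinearGroup ι F => (g : Matrix ι ι F) *ᵥ Pi.single k 1) hf
  simp only [colHom, MonoidHom.coe_mk, OneHom.coe_mk] at h
  rw [tv_mulVec (colVec_dot hk f), cone, one_mulVec] at h
  funext i
  have hi := congrFun h i.1
  have hik : (i : ι) ≠ k := fun e => hk (e ▸ i.2)
  simpa [colVec, hik] using hi

section

variable [LinearOrder ι]

/-- The lifted unipotent group on the indices in `S`. -/
noncomputable def uniGen (S : Finset ι) : Subgroup Γ :=
  Subgroup.closure {x | ∃ i ∈ S, ∃ j ∈ S, ∃ t : F, i < j ∧ x = liftX hs i j t}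

theorem liftX_mem_uniGen {S : Finset ι} {i j : ι} (hi : i ∈ S) (hj : j ∈ S) (hij : i < j) (t : F) :
    liftX hs i j t ∈ uniGen hs S :=
  Subgroup.subset_closure ⟨i, hi, j, hj, t, hij, rfl⟩

include hg in
theorem uniGen_fix {S : Finset ι} {g : Γ} (hgS : g ∈ uniGen hs S) {x : ι} (hx : x ∉ S) :
    ((σ g : SpecialLinearGroup ι F) : Matrix ι ι F) *ᵥ Pi.single x 1 = Pi.single x 1 := by
  induction hgS using Subgroup.closure_induction with
  | mem y hy =>
    obtain ⟨i, _, j, hj, t, hij, rfl⟩ := hy
    rw [map_liftX hs hg hij.ne, tvx, tv_mulVec (tvx_dot hij.ne t)]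
    have hxj : j ≠ x := fun e => hx (e ▸ hj)
    simp [hxj]
  | one => rw [map_one, cone, one_mulVec]
  | mul a b _ _ ha hb => rw [map_mul, cmul, ← mulVec_mulVec, hb, ha]
  | inv a _ ha =>
    rw [map_inv]
    conv_lhs => rw [← ha, mulVec_mulVec, inv_mul_val, one_mulVec]

theorem uniGen_bot {S : Finset ι} (hS : S.card ≤ 1) : uniGen (F := F) hs S = ⊥ := by
  rw [uniGen, Subgroup.closure_eq_bot_iff]
  rintro x ⟨i, hi, j, hj, t, hij, rfl⟩
  exact absurd (Finset.card_le_one.mp hS i hi j hj) hij.ne

include hc hg in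
theorem uniGen_spec [Fintype F] (S : Finset ι) :
    Nat.card (uniGen hs S) = Fintype.card F ^ S.card.choose 2 ∧
      ∀ g ∈ uniGen hs S, σ g = 1 → g = 1 := by
  induction S using Finset.induction_on_max with
  | empty =>
    rw [uniGen_bot hs (by simp)]
    simp
  | insert k S hlt ih =>
    have hk : k ∉ S := fun h => lt_irrefl k (hlt k h)
    have hne : ∀ i : S, (i : ι) ≠ k := fun i e => hk (e ▸ i.2)
    -- the lifted column
    let φ₁ : ∀ _ : S, Multiplicative F →* Γ := fun i =>
      { toFun := fun t => liftX hs i k t.toAdd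
        map_one' := liftX_zero hs hc hg (hne i)
        map_mul' := fun s t => liftX_add hs hc hg (hne i) _ _ }
    have hφc : Pairwise fun i j : S => ∀ x y, Commute (φ₁ i x) (φ₁ j y) := fun i j _ x y =>
      liftX_commute hs hc hg (hne i) (hne j) (hne j).symm (hne i).symm _ _
    let φ := MonoidHom.noncommPiCoprod φ₁ hφc
    set C : Subgroup Γ := Subgroup.closure {x | ∃ i ∈ S, ∃ t : F, x = liftX hs i k t} with hC
    have hφmem : ∀ i : S, ∀ t : F, liftX hs (i : ι) k t ∈ φ.range := fun i t =>
      ⟨Pi.mulSingle i (Multiplicative.ofAdd t), MonoidHom.noncommPiCoprod_mulSingle _ _ _⟩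
    have hrange : φ.range = C := by
      refine le_antisymm ?_ ?_
      · rw [show φ.range = ⨆ i : S, (φ₁ i).range from MonoidHom.noncommPiCoprod_range _]
        exact iSup_le fun i => by
          rintro x ⟨t, rfl⟩
          exact Subgroup.subset_closure ⟨i, i.2, t.toAdd, rfl⟩
      · rw [hC, Subgroup.closure_le]
        rintro x ⟨i, hi, t, rfl⟩
        exact hφmem ⟨i, hi⟩ t
    have hcomp : σ.comp φ = colHom hk := by
      refine MonoidHom.pi_ext fun i t => ?_
      rw [MonoidHom.comp_apply, MonoidHom.noncommPiCoprod_mulSingle]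
      show σ (liftX hs i k t.toAdd) = tv (colVec S (Pi.mulSingle i t)) (Pi.single k 1)
      rw [map_liftX hs hg (hne i), tvx]
      congr 1
      funext x
      unfold colVec
      by_cases hx : x ∈ S
      · rw [dif_pos hx]
        by_cases hxi : x = (i : ι)
        · subst hxi; simp
        · have : (⟨x, hx⟩ : S) ≠ i := fun e => hxi (congrArg Subtype.val e)
          simp [this, hxi]
      · have hxi : x ≠ (i : ι) := fun e => hx (e ▸ i.2)
        simp [hx, hxi]
    have hσC : ∀ f, σ (φ f) = colHom hk f := fun f => DFunLike.congr_fun hcomp f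
    have hφinj : Function.Injective φ := fun f f' h =>
      colHom_injective hk (by rw [← hσC, ← hσC, h])
    have hCcard : Nat.card C = Fintype.card F ^ S.card := by
      rw [← hrange, ← Nat.card_congr (MonoidHom.ofInjective hφinj).toEquiv, Nat.card_pi]
      simp [Nat.card_eq_fintype_card]
    -- the column is normalised
    have hgen : ∀ a ∈ S, ∀ b ∈ S, a < b → ∀ s : F, ∀ c ∈ C,
        liftX hs a b s * c * (liftX hs a b s)⁻¹ ∈ C := by
      intro a ha b hb hab s c hcC
      induction hcC using Subgroup.closure_induction with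
      | mem y hy =>
        obtain ⟨i, hi, t, rfl⟩ := hy
        by_cases hbi : b = i
        · subst hbi
          rw [show liftX hs a b s * liftX hs b k t * (liftX hs a b s)⁻¹ =
            ⁅liftX hs a b s, liftX hs b k t⁆ * liftX hs b k t by simp only [commutatorElement_def]; group]
          rw [liftX_commutator hs hc hg hab.ne (hne ⟨b, hb⟩) (hne ⟨a, ha⟩)]
          exact mul_mem (Subgroup.subset_closure ⟨a, ha, _, rfl⟩) (Subgroup.subset_closure ⟨b, hb, t, rfl⟩)
        · rw [(liftX_commute hs hc hg hab.ne (hne ⟨i, hi⟩) hbi (hne ⟨a, ha⟩).symm s t).eq,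
            mul_inv_cancel_right]
          exact Subgroup.subset_closure ⟨i, hi, t, rfl⟩
      | one => simp [one_mem]
      | mul x y _ _ hx hy => simpa [mul_assoc] using mul_mem hx hy
      | inv x _ hx => simpa [mul_assoc] using inv_mem hx
    have hnorm : uniGen hs S ≤ Subgroup.normalizer (C : Set Γ) := by
      rw [uniGen, Subgroup.closure_le]
      rintro x ⟨a, ha, b, hb, s, hab, rfl⟩
      rw [SetLike.mem_coe, Subgroup.mem_normalizer_iff]
      intro c
      refine ⟨hgen a ha b hb hab s c, fun h => ?_⟩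
      have h' := hgen a ha b hb hab (-s) _ h
      rw [← liftX_inv hs hc hg hab.ne] at h'
      simpa [mul_assoc] using h'
    have hsup : uniGen hs (insert k S) = uniGen hs S ⊔ C := by
      refine le_antisymm ?_ (sup_le ?_ ?_)
      · rw [uniGen, Subgroup.closure_le]
        rintro x ⟨i, hi, j, hj, t, hij, rfl⟩
        rcases Finset.mem_insert.mp hj with rfl | hj'
        · rcases Finset.mem_insert.mp hi with rfl | hi'
          · exact absurd hij (lt_irrefl _)
          · exact Subgroup.mem_sup_right (Subgroup.subset_closure ⟨i, hi', t, rfl⟩)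
        · rcases Finset.mem_insert.mp hi with rfl | hi'
          · exact absurd (hlt j hj') hij.asymm
          · exact Subgroup.mem_sup_left (liftX_mem_uniGen hs hi' hj' hij t)
      · exact Subgroup.closure_mono fun x ⟨i, hi, j, hj, t, hij, hx⟩ =>
          ⟨i, Finset.mem_insert_of_mem hi, j, Finset.mem_insert_of_mem hj, t, hij, hx⟩
      · exact (Subgroup.closure_le _).mpr fun x ⟨i, hi, t, hx⟩ => hx ▸
          liftX_mem_uniGen hs (Finset.mem_insert_of_mem hi) (Finset.mem_insert_self k S) (hlt i hi) t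
    have hdisj : ∀ h ∈ uniGen hs S, ∀ c ∈ C, σ (h * c) = 1 → h = 1 ∧ c = 1 := by
      intro h hh c hcC h1
      obtain ⟨f, rfl⟩ := hrange.symm ▸ hcC
      have hfix := uniGen_fix hs hg (inv_mem hh) hk
      rw [map_mul] at h1
      rw [map_inv, inv_eq_of_mul_eq_one_right h1, hσC] at hfix
      simp only [colHom, MonoidHom.coe_mk, OneHom.coe_mk] at hfix
      rw [tv_mulVec (colVec_dot hk f)] at hfix
      have hf : colHom hk f = 1 := by
        show tv (colVec S f) (Pi.single k 1) = 1
        rw [show colVec S f = 0 by simpa using hfix, tv_zero_left]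
      have hf1 : f = 1 := colHom_injective hk (by rw [hf, map_one])
      subst hf1
      refine ⟨ih.2 h hh ?_, map_one φ⟩
      simpa using h1
    have hcoe : (↑(uniGen hs S ⊔ C) : Set Γ) = (uniGen hs S : Set Γ) * (C : Set Γ) :=
      Subgroup.coe_mul_of_left_le_normalizer_right (uniGen hs S) C hnorm
    constructor
    · have e : Function.Bijective (fun x : uniGen hs S × C =>
          (⟨x.1.1 * x.2.1, hsup ▸ Subgroup.mul_mem_sup x.1.2 x.2.2⟩ : uniGen hs (insert k S))) := by
        constructor
        · rintro ⟨⟨h, hh⟩, ⟨c, hc'⟩⟩ ⟨⟨h', hh'⟩, ⟨c', hc''⟩⟩ e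
          have e' : h * c = h' * c' := congrArg Subtype.val e
          have e2 : (h'⁻¹ * h) * (c * c'⁻¹) = 1 := by
            rw [show (h'⁻¹ * h) * (c * c'⁻¹) = h'⁻¹ * (h * c) * c'⁻¹ by group, e']; group
          obtain ⟨a1, a2⟩ := hdisj _ (mul_mem (inv_mem hh') hh) _ (mul_mem hc' (inv_mem hc''))
            (by rw [e2, map_one])
          rw [inv_mul_eq_one] at a1
          rw [mul_inv_eq_one] at a2
          subst a1; subst a2; rfl
        · rintro ⟨x, hx⟩
          have hx' : x ∈ (↑(uniGen hs S ⊔ C) : Set Γ) := hsup ▸ hx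
          rw [hcoe] at hx'
          obtain ⟨h, hh, c, hc', rfl⟩ := hx'
          exact ⟨⟨⟨h, hh⟩, ⟨c, hc'⟩⟩, rfl⟩
      rw [← Nat.card_eq_of_bijective _ e, Nat.card_prod, ih.1, hCcard, ← pow_add,
        Finset.card_insert_of_notMem hk, Nat.choose_succ_succ', Nat.choose_one_right, add_comm S.card]
    · intro g hg' h1
      have hx' : g ∈ (↑(uniGen hs S ⊔ C) : Set Γ) := hsup ▸ hg'
      rw [hcoe] at hx'
      obtain ⟨h, hh, c, hc', rfl⟩ := hx'
      obtain ⟨rfl, rfl⟩ := hdisj h hh c hc' h1
      exact one_mul 1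

end

section sylow

variable {n : ℕ} {K : Type*} [Field K] [Fintype K]
variable {Δ : Type*} [Group Δ] [Finite Δ] {τ : Δ →* SpecialLinearGroup (Fin n) K}

/-- The part of the multiplier at the characteristic is trivial. -/
theorem not_dvd_card_ker_SL_char (p : ℕ) [Fact p.Prime] [CharP K p] (hτ : Cfsg.IsStemExtension τ)
    (hgood : Rels hτ.1) : ¬ p ∣ Nat.card τ.ker := by
  have hs' := hτ.1
  have hc' := hτ.2.1
  obtain ⟨hcard, hinj⟩ := uniGen_spec hs' hc' hgood (Finset.univ : Finset (Fin n))
  set U : Subgroup Δ := uniGen hs' (Finset.univ : Finset (Fin n))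
  have hUcard : Nat.card (U.map τ) =
      p ^ (Nat.card (SpecialLinearGroup (Fin n) K)).factorization p := by
    rw [LinGroup.factorization_card_SL p n, ← Nat.choose_two_right]
    rw [Finset.card_univ, Fintype.card_fin] at hcard
    rw [← hcard]
    exact Nat.card_congr (MulEquiv.ofBijective (τ.subgroupMap U)
      ⟨(injective_iff_map_eq_one _).mpr fun x hx => Subtype.ext
        (hinj x x.2 (congrArg Subtype.val hx)), τ.subgroupMap_surjective U⟩).toEquiv.symm
  obtain ⟨Q⟩ : Nonempty (Sylow p Δ) := inferInstance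
  let P : Sylow p (SpecialLinearGroup (Fin n) K) := Sylow.ofCard (U.map τ) hUcard
  obtain ⟨g, hg'⟩ := MulAction.exists_smul_eq (SpecialLinearGroup (Fin n) K) P (Q.mapSurjective hs')
  obtain ⟨g', rfl⟩ := hs' g
  refine not_dvd_card_ker ⟨hs', hc', hτ.2.2⟩ Q fun a ha ha1 => ?_
  have hmem : ∀ x ∈ (Q : Subgroup Δ), ∃ u ∈ U, ∃ z ∈ τ.ker, x = g' * u * g'⁻¹ * z := by
    intro x hx
    have h1 : τ x ∈ ((Q.mapSurjective hs' : Sylow p (SpecialLinearGroup (Fin n) K)) :
        Subgroup (SpecialLinearGroup (Fin n) K)) := ⟨x, hx, rfl⟩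
    rw [← hg', Sylow.coe_subgroup_smul] at h1
    obtain ⟨_, ⟨u, hu, rfl⟩, hu'⟩ := h1
    refine ⟨u, hu, (g' * u * g'⁻¹)⁻¹ * x, ?_, by group⟩
    have hu'' : τ g' * τ u * (τ g')⁻¹ = τ x := hu'
    rw [MonoidHom.mem_ker, map_mul, map_inv, map_mul, map_mul, map_inv, hu'', inv_mul_cancel]
  have hle : ⁅(Q : Subgroup Δ), (Q : Subgroup Δ)⁆ ≤ U.map (MulAut.conj g').toMonoidHom := by
    rw [Subgroup.commutator_le]
    intro x hx y hy
    obtain ⟨u, hu, z, hz, rfl⟩ := hmem x hx
    obtain ⟨v, hv, w, hw, rfl⟩ := hmem y hy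
    rw [commutatorElement_mul_central _ _ (hc' hz) (hc' hw)]
    refine ⟨⁅u, v⁆, ?_, by simp [map_commutatorElement]⟩
    exact mul_mem (mul_mem (mul_mem hu hv) (inv_mem hu)) (inv_mem hv)
  have haQ : (a : Δ) ∈ ⁅(Q : Subgroup Δ), (Q : Subgroup Δ)⁆ := by
    have h := Subgroup.mem_map_of_mem (Q : Subgroup Δ).subtype ha
    rwa [commutator_def, Subgroup.map_commutator, ← MonoidHom.range_eq_map,
      Subgroup.range_subtype] at h
  obtain ⟨u, hu, hua⟩ := hle haQ
  have hua' : g' * u * g'⁻¹ = (a : Δ) := hua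
  have hu1 : u = 1 := hinj u hu (by
    rw [← hua', map_mul, map_mul, map_inv, mul_inv_eq_one, mul_eq_left] at ha1
    exact ha1)
  apply Subtype.ext
  rw [← hua', hu1]; simp

end sylow

end Cfsg.Agent.Lib.Schur.Four
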